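import Mathlib

/-!
Right derived functors commute with exact functors, naturally.
-/

set_option autoImplicit false
set_option linter.style.haveILetI false
set_option backward.isDefEq.respectTransparency false
set_option backward.isDefEq.respectTransparency.types false

open CategoryTheory Category Limits

namespace Groth.Agent.EtStrictLoc

section CompExact

variable {A B E : Type*} [Category A] [Category B] [Category E] [Abelian A] [Abelian B] [Abelian E]
  [HasInjectiveResolutions A] (F : A ⥤ B) [F.Additive] (G : B ⥤ E) [G.Additive] [G.PreservesHomology]

/-- right derived functors commute with exact functors, naturally -/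
noncomputable def rightDerivedCompExactIso (n : ℕ) :
    (F ⋙ G).rightDerived n ≅ F.rightDerived n ⋙ G :=
  NatIso.ofComponents
    (fun X => (injectiveResolution X).isoRightDerivedObj (F ⋙ G) n ≪≫
      (ShortComplex.mapHomologyIso
        (((F.mapHomologicalComplex (ComplexShape.up ℕ)).obj (injectiveResolution X).cocomplex).sc n) G) ≪≫
      G.mapIso ((injectiveResolution X).isoRightDerivedObj F n).symm)
    (fun {X Y} f => by
      let R := injectiveResolution X
      let R' := injectiveResolution Y
      let φ := InjectiveResolution.desc f R' R
      have hφ : R.ι.f 0 ≫ φ.f 0 = f ≫ R'.ι.f 0 := InjectiveResolution.desc_commutes_zero f R' R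
      have h := InjectiveResolution.isoRightDerivedObj_hom_naturality f R R' φ hφ (F ⋙ G) n
      have h' := InjectiveResolution.isoRightDerivedObj_inv_naturality f R R' φ hφ F n
      simp only [Iso.trans_hom, Functor.mapIso_hom, Iso.symm_hom, Functor.comp_map, assoc]
      refine ((reassoc_of% h) _).trans (congrArg (_ ≫ ·) ?_)
      rw [← G.map_comp, h', G.map_comp, ← assoc, ← assoc]
      refine congrArg (· ≫ _) ?_
      exact ShortComplex.mapHomologyIso_hom_naturality
        ((HomologicalComplex.shortComplexFunctor B (ComplexShape.up ℕ) n).map
          ((F.mapHomologicalComplex (ComplexShape.up ℕ)).map φ)) G)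

end CompExact

end Groth.Agent.EtStrictLoc
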