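import Groth.Agent.EtStrictLoc.Theta
import Groth.Agent.GrothSS.CompAcyclicNat
import Groth.Agent.GrothSS.Ext
import Groth.Agent.EtStrictLoc.CompExact
import Groth.Agent.DerExt.Coyoneda
import Groth.Agent.EtMV.Base
import Groth.Agent.EtMV.Inst
import Mathlib

/-!
Stalks of higher direct images are cohomology of the base change to the strict localisation.
-/

universe u

open CategoryTheory CategoryTheory.Limits CategoryTheory.Abelian AlgebraicGeometry Opposite IsLocalRing

set_option backward.isDefEq.respectTransparency false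
set_option backward.isDefEq.respectTransparency.types false

noncomputable section

namespace Groth.Agent.EtStrictLoc

open Groth.Agent.EtLimit Groth.Agent.EtMV

set_option linter.auxLemma false
attribute [local instance 100000] EtCoh.H._proof_1 Groth.Agent.EtMV.hext
attribute [local instance 200000] Groth.Agent.EtMV.hextAb

/-- maps out of the constant sheaf are global sections -/
def secIso (Y : Scheme.{u}) : preadditiveCoyoneda.obj (op (EtCoh.const Y ℤ)) ≅ Γtop Y :=
  NatIso.ofComponents (fun G => AddEquiv.toAddCommGrpIso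
      { (((θ Y).homCongr (Iso.refl G)).trans σ : (EtCoh.const Y ℤ ⟶ G) ≃ EtCoh.sect G (EtCoh.top Y)) with
        map_add' := fun a b => by
          show σ ((θ Y).inv ≫ (a + b) ≫ 𝟙 G) = σ ((θ Y).inv ≫ a ≫ 𝟙 G) + σ ((θ Y).inv ≫ b ≫ 𝟙 G)
          rw [← σ_add, Category.comp_id, Category.comp_id, Category.comp_id, Preadditive.comp_add] })
    (fun {G G'} φ => by
      ext a
      show σ ((θ Y).inv ≫ (a ≫ φ) ≫ 𝟙 G') = φ.hom.app _ (σ ((θ Y).inv ≫ a ≫ 𝟙 G))
      rw [← σ_comp]
      simp only [Category.comp_id, Category.assoc])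

instance (Y : Scheme.{u}) : (Γtop Y).Additive where

/-- derived global sections -/
def derivedSec (Y : Scheme.{u}) (n : ℕ) : (Γtop Y).rightDerived n ≅ EtCoh.HF Y n :=
  (GrothSS.rightDerivedMapIso (secIso Y) n).symm ≪≫ DerExt.rightDerivedIso (EtCoh.const Y ℤ) n

variable {X S : Scheme.{u}} (f : X ⟶ S) (s : S) (R : Type u) [CommRing R] [IsLocalRing R]
  [Algebra (S.presheaf.stalk s) R] [IsSepClosed (ResidueField R)] [HenselianLocalRing R]
  [QuasiCompact f] [QuasiSeparated f] [IsLocalHom (algebraMap (S.presheaf.stalk s) R)]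
  [_root_.Hensel.IsStrictHenselization (S.presheaf.stalk s) R]

theorem subsingleton_H_injective (J : EtCoh.Ab X) [Injective J] (n : ℕ) :
    Subsingleton (EtCoh.H (xR f s R) ((EtCoh.pull (pullback.fst f (Hens2.specOf S s R))).obj J) (n + 1)) := by
  refine subsingleton_of_forall_eq 0 fun ξ => ?_
  obtain ⟨i, x, hx⟩ := isColim_surj (S := relDatum f s R J) (isLimitXCone f s R) (baseDatum_cocycle _ _ _ _ _ J)
    (haveI : Nonempty (Idx S s R) := IsCofiltered.nonempty; baseDatum_isColim _ _ _ _ _ J) (n + 1) ξ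
  haveI := pull_etale_preservesInjective (xp f s R i)
  haveI : Injective ((EtCoh.pull (xp f s R i)).obj J) := (EtCoh.pull (xp f s R i)).injective_obj J
  rw [← hx, show x = 0 from Ext.eq_zero_of_injective x, map_zero]

theorem nonempty_stalkRpush (n : ℕ) :
    Nonempty (EtCoh.Rpush f n ⋙ EtCoh.stalk (Hens2.geomPt S s R) ≅
      EtCoh.pull (pullback.fst f (Hens2.specOf S s R)) ⋙ EtCoh.HF (xR f s R) n) := by
  haveI : PreservesFiniteLimits (EtCoh.stalk (Hens2.geomPt S s R)) := inferInstance
  haveI : PreservesFiniteColimits (EtCoh.stalk (Hens2.geomPt S s R)) := inferInstance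
  haveI : (EtCoh.stalk (Hens2.geomPt S s R)).Additive := Functor.additive_of_preserves_binary_products _
  haveI : (EtCoh.push f ⋙ EtCoh.stalk (Hens2.geomPt S s R)).Additive := inferInstance
  haveI : (EtCoh.stalk (Hens2.geomPt S s R)).PreservesHomology := Functor.preservesHomologyOfExact _
  haveI : PreservesFiniteLimits (Γtop (xR f s R)) :=
    preservesFiniteLimits_of_natIso (secIso (xR f s R))
  obtain ⟨e⟩ := GrothSS.nonempty_rightDerived_comp_acyclic_nat
    (EtCoh.pull (pullback.fst f (Hens2.specOf S s R))) (Γtop (xR f s R)) (fun J hJ q => by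
      haveI := hJ
      haveI : Subsingleton (((EtCoh.HF (xR f s R) (q + 1)).obj
          ((EtCoh.pull (pullback.fst f (Hens2.specOf S s R))).obj J) : AddCommGrpCat.{u + 1})) :=
        subsingleton_H_injective f s R J q
      exact (AddCommGrpCat.isZero_of_subsingleton _).of_iso ((derivedSec (xR f s R) (q + 1)).app _)) n
  exact ⟨(rightDerivedCompExactIso (EtCoh.push f) (EtCoh.stalk (Hens2.geomPt S s R)) n).symm ≪≫
    GrothSS.rightDerivedMapIso (asIso (theta f s R)) n ≪≫ e ≪≫
    Functor.isoWhiskerLeft (EtCoh.pull (pullback.fst f (Hens2.specOf S s R))) (derivedSec (xR f s R) n)⟩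

end Groth.Agent.EtStrictLoc
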