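import Groth.Agent.EtStrictLoc.Limit
import Groth.Agent.EtLimit.Systems
import Groth.Agent.EtCohDesc.Retract
import Groth.Agent.EtMV.Etale
import Mathlib

/-!
The base change to a strict localisation is the limit of the base changes to affine étale neighbourhoods.
-/

universe u

open CategoryTheory CategoryTheory.Limits AlgebraicGeometry Opposite IsLocalRing

set_option backward.isDefEq.respectTransparency false
set_option backward.isDefEq.respectTransparency.types false

noncomputable section

namespace Groth.Agent.EtStrictLoc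

open Groth.Agent.EtLimit

section BaseDatum

variable {I : Type u} [SmallCategory I] {D : I ⥤ Scheme.{u}} (c : Cone D) {X : Scheme.{u}}
  (p : ∀ i, D.obj i ⟶ X) (hp : ∀ {k j : I} (a : k ⟶ j), D.map a ≫ p j = p k) (g : c.pt ⟶ X)
  (hg : ∀ i, uπ c i ≫ p i = g) (F : EtCoh.Ab X)

/-- the system of restrictions of a sheaf on a scheme receiving all stages -/
abbrev baseDatum : Datum D c where
  F i := (EtCoh.pull (p i)).obj F
  ψ {k j} a := ψh (D.map a) (p j) (p k) (hp a) F
  M := (EtCoh.pull g).obj F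
  ν i := ψh (uπ c i) (p i) g (hg i) F
  compat {k j} a := ψh_assoc (uπ c k) (D.map a) (p j) (uπ c j) (p k) g (uπ_w c a) (hp a) (hg j) (hg k) F

theorem baseDatum_cocycle : (baseDatum c p hp g hg F).Cocycle := ⟨fun l k j b a =>
  ψh_assoc (D.map b) (D.map a) (p j) (D.map (b ≫ a)) (p k) (p l)
    (D.map_comp b a).symm (hp a) (hp (b ≫ a)) (hp b) F⟩

theorem baseDatum_isColim [Nonempty I] : (baseDatum c p hp g hg F).IsColim := by
  have hbij : ∀ (i : I) (T : c.pt.Etale),
      Function.Bijective (((baseDatum c p hp g hg F).ν i).hom.app (op T)) := fun i T => by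
    haveI : IsIso ((baseDatum c p hp g hg F).ν i) :=
      inferInstanceAs (IsIso ((EtMV.ψ (uπ c i) (p i) g (hg i)).hom.app F))
    haveI : IsIso (((baseDatum c p hp g hg F).ν i).hom.app (op T)) :=
      inferInstanceAs (IsIso (((evaluation _ _).obj (op T)).map ((sheafToPresheaf _ _).map ((baseDatum c p hp g hg F).ν i))))
    exact ConcreteCategory.bijective_of_isIso (((baseDatum c p hp g hg F).ν i).hom.app (op T))
  refine ⟨fun T ζ x => ?_, fun j T s hs x => ?_⟩
  · obtain ⟨s, hs⟩ := (hbij (Classical.arbitrary I) T).2 ζ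
    refine ⟨T, 𝟙 T, _, s, ⟨x, rfl⟩, hs.trans ?_⟩
    rw [op_id, CategoryTheory.Functor.map_id]
    rfl
  · have : s = 0 := (hbij j T).1 (hs.trans (map_zero _).symm)
    subst this
    exact ⟨T, 𝟙 T, j, 𝟙 j, 0, ⟨x, rfl⟩, (map_zero _).trans (map_zero _).symm, map_zero _⟩

/-- restricting twice to the limit -/
theorem baseDatum_vs (i : I) {o : X.Etale} {W : (D.obj i).Etale} {T : c.pt.Etale} (δ₁ : W ⟶ (EtCoh.bc (p i)).obj o)
    (δ : T ⟶ (EtCoh.bc (uπ c i)).obj W) (δ₃ : T ⟶ (EtCoh.bc g).obj o)
    (h : δ.left ≫ fstE (uπ c i) W ≫ δ₁.left ≫ fstE (p i) o = δ₃.left ≫ fstE g o) (t : EtCoh.sect F o) :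
    (baseDatum c p hp g hg F).vs i δ (EtMV.r (p i) δ₁ F t) = EtMV.r g δ₃ F t :=
  r_comp' (uπ c i) (p i) g (hg i) δ₁ δ δ₃ h F t

/-- restricting twice to a later stage -/
theorem baseDatum_ts {k i : I} (a : k ⟶ i) {o : X.Etale} {W : (D.obj i).Etale} {Z : (D.obj k).Etale}
    (δ₁ : W ⟶ (EtCoh.bc (p i)).obj o) (q : Z ⟶ (EtCoh.bc (D.map a)).obj W) (δ₃ : Z ⟶ (EtCoh.bc (p k)).obj o)
    (h : q.left ≫ fstE (D.map a) W ≫ δ₁.left ≫ fstE (p i) o = δ₃.left ≫ fstE (p k) o) (t : EtCoh.sect F o) :
    (baseDatum c p hp g hg F).ts a q (EtMV.r (p i) δ₁ F t) = EtMV.r (p k) δ₃ F t :=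
  r_comp' (D.map a) (p i) (p k) (hp a) δ₁ q δ₃ h F t

end BaseDatum

variable {X S : Scheme.{u}} (f : X ⟶ S) (s : S) (R : Type u) [CommRing R] [IsLocalRing R]
  [Algebra (S.presheaf.stalk s) R] [IsSepClosed (ResidueField R)]

/-- étale neighbourhoods as objects -/
def etDiag : Idx S s R ⥤ S.Etale :=
  (equivSmallModel.{u} (Nhd S s R)).inverse ⋙ CategoryOfElements.π _ ⋙ Scheme.AffineEtale.Spec S

/-- pulled back neighbourhoods -/
def xDiag : Idx S s R ⥤ Scheme.{u} where
  obj i := ((EtCoh.bc f).obj i.nhd.et).left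
  map a := ((EtCoh.bc f).map ((etDiag s R).map a)).left
  map_id i := by rw [CategoryTheory.Functor.map_id, CategoryTheory.Functor.map_id]; rfl
  map_comp a b := by rw [CategoryTheory.Functor.map_comp, CategoryTheory.Functor.map_comp]; rfl

/-- the projection to `X` -/
abbrev xp (i : Idx S s R) : (xDiag f s R).obj i ⟶ X := ((EtCoh.bc f).obj i.nhd.et).hom

instance (i : Idx S s R) : Etale (xp f s R i) := ((EtCoh.bc f).obj i.nhd.et).prop

theorem xp_w {k j : Idx S s R} (a : k ⟶ j) : (xDiag f s R).map a ≫ xp f s R j = xp f s R k :=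
  MorphismProperty.Over.w ((EtCoh.bc f).map ((etDiag s R).map a))

instance {i j : Idx S s R} (a : i ⟶ j) : IsAffineHom ((xDiag f s R).map a) := by
  haveI : IsAffineHom ((etDiag s R).map a).left :=
    inferInstanceAs (IsAffineHom (Spec.map (Idx.nhdMap a).1.left.unop))
  exact MorphismProperty.of_isPullback (P := @IsAffineHom) (EtCoh.isPullback_bc_map f ((etDiag s R).map a)).flip
    inferInstance

theorem qcqs_xDiag [QuasiCompact f] [QuasiSeparated f] (i : Idx S s R) :
    EtColimH.Qcqs ((EtCoh.bc f).obj i.nhd.et) := by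
  haveI : IsAffine i.nhd.et.left := inferInstanceAs (IsAffine (Spec _))
  exact qcqs_bc_of_qcqs f (EtColimH.qcqs_of_isAffine i.nhd.et)

instance [QuasiCompact f] [QuasiSeparated f] (i : Idx S s R) : CompactSpace ((xDiag f s R).obj i) :=
  (qcqs_xDiag f s R i).1

instance [QuasiCompact f] [QuasiSeparated f] (i : Idx S s R) : QuasiSeparatedSpace ((xDiag f s R).obj i) :=
  (qcqs_xDiag f s R i).2

variable [HenselianLocalRing R]

/-- the base change to the strict localisation -/
abbrev xR : Scheme.{u} := pullback f (Hens2.specOf S s R)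

/-- the map to a stage -/
abbrev xπ (i : Idx S s R) : xR f s R ⟶ (xDiag f s R).obj i :=
  pullback.lift (pullback.snd f (Hens2.specOf S s R) ≫ i.nhd.sec) (pullback.fst f (Hens2.specOf S s R))
    (by rw [Category.assoc, i.nhd.sec_w]; exact pullback.condition.symm)

theorem xπ_fst (i : Idx S s R) : xπ f s R i ≫ fstE f i.nhd.et = pullback.snd f _ ≫ i.nhd.sec :=
  pullback.lift_fst _ _ _

theorem xπ_snd (i : Idx S s R) : xπ f s R i ≫ xp f s R i = pullback.fst f (Hens2.specOf S s R) :=
  pullback.lift_snd _ _ _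

theorem xπ_w {k j : Idx S s R} (a : k ⟶ j) : xπ f s R k ≫ (xDiag f s R).map a = xπ f s R j := by
  apply pullback.hom_ext
  · refine Eq.trans ?_ (xπ_fst f s R j).symm
    rw [Category.assoc]
    refine (congrArg (xπ f s R k ≫ ·) (bc_map_fst f ((etDiag s R).map a))).trans ?_
    rw [← Category.assoc]
    refine (congrArg (· ≫ ((etDiag s R).map a).left) (xπ_fst f s R k)).trans ?_
    rw [Category.assoc]
    exact congrArg (pullback.snd f _ ≫ ·) (Nhd.sec_map (Idx.nhdMap a))
  · refine Eq.trans ?_ (xπ_snd f s R j).symm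
    rw [Category.assoc]
    exact (congrArg (xπ f s R k ≫ ·) (xp_w f s R a)).trans (xπ_snd f s R k)

/-- the cone -/
def xCone : Cone (xDiag f s R) where
  pt := xR f s R
  π :=
    { app := xπ f s R
      naturality := fun k j a => (Category.id_comp _).trans (xπ_w f s R a).symm }

variable [IsLocalHom (algebraMap (S.presheaf.stalk s) R)]
  [_root_.Hensel.IsStrictHenselization (S.presheaf.stalk s) R]

/-- the base change is the limit -/
def isLimitXCone : IsLimit (xCone f s R) :=
  haveI : Nonempty (Idx S s R) := IsCofiltered.nonempty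
  let i₀ : Idx S s R := Classical.arbitrary _
  let tc (t : Cone (xDiag f s R)) : Cone (diag S s R) :=
    { pt := t.pt
      π :=
        { app := fun i => t.π.app i ≫ fstE f i.nhd.et
          naturality := fun k j a => by
            refine (Category.id_comp _).trans ?_
            show t.π.app j ≫ fstE f j.nhd.et = (t.π.app k ≫ fstE f k.nhd.et) ≫ ((etDiag s R).map a).left
            rw [Category.assoc, ← t.w a, Category.assoc]
            exact congrArg (t.π.app k ≫ ·) (bc_map_fst f ((etDiag s R).map a)) } }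
  have hsnd : ∀ (t : Cone (xDiag f s R)) (i : Idx S s R), t.π.app i ≫ xp f s R i = t.π.app i₀ ≫ xp f s R i₀ := by
    intro t i
    obtain ⟨k, a, b, -⟩ := IsCofilteredOrEmpty.cone_objs i i₀
    rw [← t.w a, ← t.w b, Category.assoc, Category.assoc, xp_w, xp_w]
  have hl : ∀ (t : Cone (xDiag f s R)) (i : Idx S s R),
      (isLimitCone S s R).lift (tc t) ≫ i.nhd.sec = t.π.app i ≫ fstE f i.nhd.et := fun t i => by
    rw [← i.nhd.spec_ev]
    exact (isLimitCone S s R).fac (tc t) i
  { lift := fun t => pullback.lift (t.π.app i₀ ≫ xp f s R i₀) ((isLimitCone S s R).lift (tc t)) (by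
      rw [← i₀.nhd.sec_w, reassoc_of% (hl t i₀), Category.assoc]
      refine congrArg (t.π.app i₀ ≫ ·) ?_
      exact (pullback.condition (f := i₀.nhd.et.hom) (g := f)).symm)
    fac := fun t i => by
      apply pullback.hom_ext
      · show (_ ≫ xπ f s R i) ≫ fstE f i.nhd.et = _
        rw [Category.assoc, xπ_fst, ← Category.assoc, pullback.lift_snd]
        exact hl t i
      · show (_ ≫ xπ f s R i) ≫ xp f s R i = _
        rw [Category.assoc, xπ_snd, pullback.lift_fst]
        exact (hsnd t i).symm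
    uniq := fun t m hm => by
      apply pullback.hom_ext
      · rw [pullback.lift_fst, ← xπ_snd f s R i₀, ← Category.assoc]
        exact congrArg (· ≫ xp f s R i₀) (hm i₀)
      · rw [pullback.lift_snd]
        refine (isLimitCone S s R).hom_ext fun i => ?_
        rw [(isLimitCone S s R).fac]
        show (m ≫ pullback.snd f _) ≫ Spec.map i.nhd.ev = t.π.app i ≫ fstE f i.nhd.et
        rw [i.nhd.spec_ev, Category.assoc, ← xπ_fst, ← Category.assoc]
        exact congrArg (· ≫ fstE f i.nhd.et) (hm i) }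

/-- the system of restrictions -/
abbrev relDatum (F : EtCoh.Ab X) : Datum (xDiag f s R) (xCone f s R) :=
  baseDatum (xCone f s R) (xp f s R) (xp_w f s R) (pullback.fst f (Hens2.specOf S s R)) (xπ_snd f s R) F

end Groth.Agent.EtStrictLoc
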