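import Groth.Agent.EtHens.Basic
import Groth.Agent.EtSect.Locus
import Groth.Prelude.Def_Hens2
import Mathlib

/-!
Points of étale schemes extend uniquely to strict localisations.
-/

universe u

open CategoryTheory CategoryTheory.Limits AlgebraicGeometry Opposite

set_option backward.isDefEq.respectTransparency false
set_option backward.isDefEq.respectTransparency.types false

namespace Groth.Agent.EtStrictLoc

open IsLocalRing

variable {S : Scheme.{u}} {R : Type u} [CommRing R] [IsLocalRing R]

/-- morphisms from a local scheme to an étale scheme are determined by the closed point -/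
theorem ext_of_closed {W : Scheme.{u}} (q : W ⟶ S) [Etale q] {a₁ a₂ : Spec (CommRingCat.of R) ⟶ W}
    (h : a₁ ≫ q = a₂ ≫ q)
    (hpt : Spec.map (CommRingCat.ofHom (residue R)) ≫ a₁ = Spec.map (CommRingCat.ofHom (residue R)) ≫ a₂) :
    a₁ = a₂ := by
  let d : Spec (CommRingCat.of R) ⟶ pullback q q := pullback.lift a₁ a₂ h
  haveI : IsOpenImmersion (pullback.diagonal q) := inferInstance
  let c : Spec (CommRingCat.of R) := Spec.map (CommRingCat.ofHom (residue R)) (default : Spec (CommRingCat.of (ResidueField R)))
  have hc : c ∈ d ⁻¹ᵁ (pullback.diagonal q).opensRange := by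
    refine ⟨(Spec.map (CommRingCat.ofHom (residue R)) ≫ a₁) (default : Spec (CommRingCat.of (ResidueField R))), ?_⟩
    have : Spec.map (CommRingCat.ofHom (residue R)) ≫ d =
        (Spec.map (CommRingCat.ofHom (residue R)) ≫ a₁) ≫ pullback.diagonal q := by
      apply pullback.hom_ext
      · simp only [Category.assoc, d, pullback.lift_fst, pullback.diagonal_fst, Category.comp_id]
      · simp only [Category.assoc, d, pullback.lift_snd, pullback.diagonal_snd, Category.comp_id]
        exact hpt.symm
    exact congr($this.symm (default : Spec (CommRingCat.of (ResidueField R))))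
  have hc' : c = closedPoint R := by
    refine PrimeSpectrum.ext ?_
    show Ideal.comap (residue R) _ = maximalIdeal R
    rw [show ((default : Spec (CommRingCat.of (ResidueField R))) : PrimeSpectrum (ResidueField R)).asIdeal = ⊥ from
      (Ideal.eq_bot_or_top _).resolve_right (PrimeSpectrum.isPrime _).ne_top, ← RingHom.ker_eq_comap_bot, ker_residue]
  have htop : d ⁻¹ᵁ (pullback.diagonal q).opensRange = ⊤ := by
    refine TopologicalSpace.Opens.ext (Set.eq_univ_of_forall fun z => ?_)
    exact ((IsLocalRing.specializes_closedPoint z).mem_open (d ⁻¹ᵁ (pullback.diagonal q).opensRange).2 (hc' ▸ hc))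
  have hr : Set.range d ⊆ Set.range (pullback.diagonal q) := by
    rintro _ ⟨z, rfl⟩
    exact (htop ▸ trivial : z ∈ d ⁻¹ᵁ (pullback.diagonal q).opensRange)
  have key := IsOpenImmersion.lift_fac (pullback.diagonal q) d hr
  have h1 := congrArg (· ≫ pullback.fst q q) key
  have h2 := congrArg (· ≫ pullback.snd q q) key
  simp only [Category.assoc, pullback.diagonal_fst, pullback.diagonal_snd, Category.comp_id, d, pullback.lift_fst,
    pullback.lift_snd] at h1 h2
  exact h1.symm.trans h2

variable [HenselianLocalRing R] (b : Spec (CommRingCat.of R) ⟶ S)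

/-- points over the closed point extend -/
theorem exists_lift (W : S.Etale)
    (u : Spec (CommRingCat.of (ResidueField R)) ⟶ W.left) (hu : u ≫ W.hom = EtHens.pt R ≫ b) :
    ∃ a : Spec (CommRingCat.of R) ⟶ W.left, a ≫ W.hom = b ∧ EtHens.pt R ≫ a = u := by
  let W' := (EtCoh.bc b).obj W
  let w : Over.mk (EtHens.pt R) ⟶ (Scheme.Etale.forget (Spec (CommRingCat.of R))).obj W' :=
    Over.homMk (pullback.lift u (EtHens.pt R) hu) (pullback.lift_snd _ _ _)
  obtain ⟨s, hs, hs'⟩ := EtHens.exists_section R W' w
  refine ⟨s ≫ pullback.fst W.hom b, ?_, ?_⟩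
  · rw [Category.assoc, pullback.condition, ← Category.assoc]
    exact (congrArg (· ≫ b) hs).trans (Category.id_comp _)
  · rw [← Category.assoc]
    refine (congrArg (· ≫ pullback.fst W.hom b) hs').trans ?_
    exact pullback.lift_fst _ _ _

end Groth.Agent.EtStrictLoc
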