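import Groth.Agent.EtStrictLoc.Ring
import Groth.Agent.EtStrictLoc.Lift
import Mathlib

/-!
The strict localisation is the limit of the affine étale neighbourhoods.
-/

universe u

open CategoryTheory CategoryTheory.Limits AlgebraicGeometry Opposite IsLocalRing

set_option backward.isDefEq.respectTransparency false
set_option backward.isDefEq.respectTransparency.types false

noncomputable section

namespace Groth.Agent.EtStrictLoc

variable (S : Scheme.{u}) (s : S) (R : Type u) [CommRing R] [IsLocalRing R] [Algebra (S.presheaf.stalk s) R]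
  [IsSepClosed (ResidueField R)]

/-- the fibre functor of the geometric point -/
abbrev fib : S.Etale ⥤ Type u := (Scheme.pointSmallEtale (Hens2.geomPt S s R)).fiber

/-- affine pointed étale neighbourhoods -/
abbrev Nhd : Type (u + 1) := (Scheme.AffineEtale.Spec S ⋙ fib S s R).Elements

instance : IsCofiltered (Nhd S s R) := by
  haveI : (CategoryTheory.Functor.Elements.precomp (Scheme.AffineEtale.Spec S) (fib S s R)).Faithful :=
    ⟨fun {X Y f g} h => Subtype.ext ((Scheme.AffineEtale.Spec S).map_injective (congrArg Subtype.val h))⟩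
  haveI : (CategoryTheory.Functor.Elements.precomp (Scheme.AffineEtale.Spec S) (fib S s R)).Full :=
    ⟨fun {X Y} f => ⟨⟨(Scheme.AffineEtale.Spec S).preimage f.1, by
      show (fib S s R).map ((Scheme.AffineEtale.Spec S).map _) _ = _
      rw [Functor.map_preimage]; exact f.2⟩, Subtype.ext (by exact Functor.map_preimage (Scheme.AffineEtale.Spec S) f.1)⟩⟩
  refine IsCofiltered.of_exists_of_isCofiltered_of_fullyFaithful
    (CategoryTheory.Functor.Elements.precomp (Scheme.AffineEtale.Spec S) (fib S s R)) ?_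
  rintro ⟨X, x⟩
  cases X with | _ Y f
  obtain ⟨y, hy, rfl⟩ := Over.homMk_surjective x
  dsimp at y hy
  obtain ⟨A, j, hj, hjy, -⟩ := Scheme.exists_affine_mem_range_and_range_subset
    (x := y.base (default : Spec (CommRingCat.of (ResidueField R)))) (U := (⊤ : Y.Opens)) (by simp)
  have hr : Set.range y ⊆ Set.range j := by
    rintro _ ⟨a, rfl⟩
    rwa [Subsingleton.elim (α := Spec (CommRingCat.of (ResidueField R))) a default]
  refine ⟨Functor.elementsMk _ (Scheme.AffineEtale.mk (j ≫ f)) (Over.homMk (IsOpenImmersion.lift j y hr) ?_), ⟨?_⟩⟩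
  · show IsOpenImmersion.lift j y hr ≫ j ≫ f = _
    rw [IsOpenImmersion.lift_fac_assoc]
    exact hy
  · exact CategoryOfElements.homMk _ _ (MorphismProperty.Over.homMk j rfl)
      (Over.OverMorphism.ext (IsOpenImmersion.lift_fac _ _ _))

/-- a small model of the neighbourhoods -/
abbrev Idx : Type u := SmallModel.{u} (Nhd S s R)

instance : IsCofiltered (Idx S s R) := IsCofiltered.of_equivalence (equivSmallModel.{u} (Nhd S s R))

variable {S s R}

/-- the underlying étale scheme -/
abbrev Nhd.et (n : Nhd S s R) : S.Etale := (Scheme.AffineEtale.Spec S).obj n.1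

/-- the point -/
abbrev Nhd.pt (n : Nhd S s R) : Spec (CommRingCat.of (ResidueField R)) ⟶ n.et.left := n.2.left

theorem Nhd.pt_w (n : Nhd S s R) : n.pt ≫ n.et.hom = Hens2.geomPt S s R := Over.w n.2

theorem Nhd.pt_map {n m : Nhd S s R} (g : n ⟶ m) :
    n.pt ≫ ((Scheme.AffineEtale.Spec S).map g.1).left = m.pt :=
  congrArg CommaMorphism.left g.2

variable [HenselianLocalRing R]

/-- the section over the strict localisation -/
def Nhd.sec (n : Nhd S s R) : Spec (CommRingCat.of R) ⟶ n.et.left :=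
  (exists_lift (Hens2.specOf S s R) n.et n.pt n.pt_w).choose

theorem Nhd.sec_w (n : Nhd S s R) : n.sec ≫ n.et.hom = Hens2.specOf S s R :=
  (exists_lift (Hens2.specOf S s R) n.et n.pt n.pt_w).choose_spec.1

theorem Nhd.sec_pt (n : Nhd S s R) : EtHens.pt R ≫ n.sec = n.pt :=
  (exists_lift (Hens2.specOf S s R) n.et n.pt n.pt_w).choose_spec.2

theorem Nhd.sec_unique (n : Nhd S s R) (a : Spec (CommRingCat.of R) ⟶ n.et.left)
    (h : a ≫ n.et.hom = Hens2.specOf S s R) (h' : EtHens.pt R ≫ a = n.pt) : a = n.sec := by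
  haveI : Etale n.et.hom := n.et.prop
  exact ext_of_closed n.et.hom (h.trans n.sec_w.symm) (h'.trans n.sec_pt.symm)

theorem Nhd.sec_map {n m : Nhd S s R} (g : n ⟶ m) :
    n.sec ≫ ((Scheme.AffineEtale.Spec S).map g.1).left = m.sec := by
  refine m.sec_unique _ ?_ ?_
  · rw [Category.assoc]
    refine (congrArg (n.sec ≫ ·) (MorphismProperty.Over.w ((Scheme.AffineEtale.Spec S).map g.1))).trans ?_
    exact n.sec_w
  · rw [← Category.assoc, n.sec_pt]
    exact Nhd.pt_map g

/-- the ring map to the strict henselization -/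
def Nhd.ev (n : Nhd S s R) : n.1.left.unop ⟶ CommRingCat.of R := Spec.preimage n.sec

theorem Nhd.spec_ev (n : Nhd S s R) : Spec.map n.ev = n.sec := Spec.map_preimage _

theorem Nhd.ev_map {n m : Nhd S s R} (g : n ⟶ m) : g.1.left.unop ≫ n.ev = m.ev := by
  apply Spec.map_injective
  rw [Spec.map_comp, n.spec_ev, m.spec_ev]
  exact Nhd.sec_map g

variable [IsLocalHom (algebraMap (S.presheaf.stalk s) R)]
  [_root_.Hensel.IsStrictHenselization (S.presheaf.stalk s) R]

section Chart

variable (V : S.Opens) (hV : IsAffineOpen V) (hs : s ∈ V)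

/-- the structure map from an affine neighbourhood -/
abbrev chartMap : Γ(S, V) →+* R := (algebraMap (S.presheaf.stalk s) R).comp (S.presheaf.germ V s hs).hom

theorem chart_w : Spec.map (CommRingCat.ofHom (chartMap (R := R) V hs)) ≫ hV.fromSpec = Hens2.specOf S s R := by
  rw [Hens2.specOf, ← IsAffineOpen.fromSpecStalk_eq_fromSpecStalk hV hs, IsAffineOpen.fromSpecStalk,
    ← Category.assoc, ← Spec.map_comp]
  rfl

variable [Algebra Γ(S, V) R] (hA : algebraMap Γ(S, V) R = chartMap V hs)
  (C : Type u) [CommRing C] [Algebra Γ(S, V) C] [Algebra.Etale Γ(S, V) C] (φ : C →ₐ[Γ(S, V)] R)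

instance : Etale (Spec.map (CommRingCat.ofHom (algebraMap Γ(S, V) C))) :=
  (HasRingHomProperty.Spec_iff (P := @Etale)).2 (RingHom.etale_algebraMap.2 inferInstance)

include hA in
/-- the neighbourhood of an algebra -/
theorem exists_nhd_of_alg : ∃ (n : Nhd S s R) (e : CommRingCat.of C ≅ n.1.left.unop),
    e.hom ≫ n.ev = CommRingCat.ofHom φ.toRingHom ∧
      Spec.map e.hom ≫ Spec.map (CommRingCat.ofHom (algebraMap Γ(S, V) C)) ≫ hV.fromSpec = n.et.hom := by
  haveI : IsOpenImmersion hV.fromSpec := inferInstance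
  let f : Spec (CommRingCat.of C) ⟶ S := Spec.map (CommRingCat.ofHom (algebraMap Γ(S, V) C)) ≫ hV.fromSpec
  have hw : Spec.map (CommRingCat.ofHom φ.toRingHom) ≫ f = Hens2.specOf S s R := by
    show _ ≫ _ ≫ _ = _
    rw [← Category.assoc, ← Spec.map_comp, ← CommRingCat.ofHom_comp]
    rw [show φ.toRingHom.comp (algebraMap Γ(S, V) C) = chartMap V hs from
      (RingHom.ext fun r => (φ.commutes r).trans congr($hA r))]
    exact chart_w V hV hs
  let u : Spec (CommRingCat.of (ResidueField R)) ⟶ Spec (CommRingCat.of C) :=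
    EtHens.pt R ≫ Spec.map (CommRingCat.ofHom φ.toRingHom)
  let n : Nhd S s R := Functor.elementsMk _ (Scheme.AffineEtale.mk f) (Over.homMk u (by
    show u ≫ f = _
    rw [Category.assoc, hw]
    rfl))
  refine ⟨n, Iso.refl _, ?_, by rw [Iso.refl_hom, Spec.map_id]; exact Category.id_comp _⟩
  apply Spec.map_injective
  rw [Iso.refl_hom, Category.id_comp, n.spec_ev]
  exact (n.sec_unique _ hw rfl).symm

end Chart

theorem exists_chart : ∃ (V : S.Opens) (hV : IsAffineOpen V), s ∈ V := by
  obtain ⟨V, hV, hs, -⟩ := exists_isAffineOpen_mem_and_subset (X := S) (x := s) (U := ⊤) trivial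
  exact ⟨V, hV, hs⟩

/-- every element of the strict henselization comes from a neighbourhood -/
theorem exists_ev_eq (x : R) : ∃ (n : Nhd S s R) (y : n.1.left.unop), n.ev y = x := by
  obtain ⟨V, hV, hs⟩ := exists_chart (S := S) (s := s)
  letI := TopCat.Presheaf.algebra_section_stalk S.presheaf (⟨s, hs⟩ : V)
  haveI := hV.isLocalization_stalk ⟨s, hs⟩
  letI : Algebra Γ(S, V) R := (chartMap (R := R) V hs).toAlgebra
  haveI : IsScalarTower Γ(S, V) (S.presheaf.stalk s) R := IsScalarTower.of_algebraMap_eq fun _ => rfl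
  obtain ⟨C, _, _, _, φ, c, hc⟩ := exists_stage (hV.primeIdealOf ⟨s, hs⟩).asIdeal (S.presheaf.stalk s) R x
  obtain ⟨n, e, he, -⟩ := exists_nhd_of_alg (R := R) V hV hs rfl C φ
  exact ⟨n, e.hom c, (congr($he c)).trans hc⟩

/-- relations hold on a smaller neighbourhood -/
theorem exists_ev_kill (n : Nhd S s R) (y : n.1.left.unop) (hy : n.ev y = 0) :
    ∃ (m : Nhd S s R) (g : m ⟶ n), g.1.left.unop y = 0 := by
  obtain ⟨V, hV, hs⟩ := exists_chart (S := S) (s := s)
  letI := TopCat.Presheaf.algebra_section_stalk S.presheaf (⟨s, hs⟩ : V)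
  haveI := hV.isLocalization_stalk ⟨s, hs⟩
  letI : Algebra Γ(S, V) R := (chartMap (R := R) V hs).toAlgebra
  haveI : IsScalarTower Γ(S, V) (S.presheaf.stalk s) R := IsScalarTower.of_algebraMap_eq fun _ => rfl
  obtain ⟨n₀, e₀, he₀, hf₀⟩ := exists_nhd_of_alg (R := R) V hV hs rfl Γ(S, V) (Algebra.ofId Γ(S, V) R)
  obtain ⟨k, gk, gk₀, -⟩ := IsCofilteredOrEmpty.cone_objs n n₀
  let ρ : Γ(S, V) ⟶ k.1.left.unop := e₀.hom ≫ gk₀.1.left.unop
  letI : Algebra Γ(S, V) k.1.left.unop := ρ.hom.toAlgebra
  have hρe : Etale (Spec.map ρ) := by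
    have h1 : Etale ((Scheme.AffineEtale.Spec S).map gk₀.1).left := Groth.Agent.EtSect.etale_left _
    haveI : Etale (Spec.map gk₀.1.left.unop) := h1
    haveI : IsIso (Spec.map e₀.hom) := inferInstance
    rw [show Spec.map ρ = Spec.map gk₀.1.left.unop ≫ Spec.map e₀.hom from Spec.map_comp _ _]
    infer_instance
  haveI : Algebra.Etale Γ(S, V) k.1.left.unop :=
    RingHom.etale_algebraMap.1 ((HasRingHomProperty.Spec_iff (P := @Etale)).1 hρe)
  let φ : k.1.left.unop →ₐ[Γ(S, V)] R :=
    { k.ev.hom with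
      commutes' := fun r => by
        show k.ev (ρ r) = algebraMap Γ(S, V) R r
        have h1 : e₀.hom ≫ gk₀.1.left.unop ≫ k.ev = CommRingCat.ofHom (Algebra.ofId Γ(S, V) R).toRingHom := by
          rw [Nhd.ev_map gk₀, he₀]
        exact congr($h1 r) }
  have hy' : φ (gk.1.left.unop y) = 0 := (congr($(Nhd.ev_map gk) y)).trans hy
  obtain ⟨w, hw, hwy⟩ := exists_kill (hV.primeIdealOf ⟨s, hs⟩).asIdeal (S.presheaf.stalk s) R φ hy'
  let j : Spec (CommRingCat.of (Localization.Away w)) ⟶ k.et.left :=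
    Spec.map (CommRingCat.ofHom (algebraMap k.1.left.unop (Localization.Away w)))
  haveI : IsOpenImmersion j := IsOpenImmersion.of_isLocalization (R := k.1.left.unop) w
  haveI : Etale k.et.hom := k.et.prop
  let φ' : Localization.Away w →+* R := IsLocalization.Away.lift w (g := φ.toRingHom) hw
  have hφ' : Spec.map (CommRingCat.ofHom φ') ≫ j = k.sec := by
    rw [← k.spec_ev, ← Spec.map_comp]
    congr 1
    ext z
    exact IsLocalization.Away.lift_eq w (g := φ.toRingHom) hw z
  let m : Nhd S s R := Functor.elementsMk _ (Scheme.AffineEtale.mk (j ≫ k.et.hom))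
    (Over.homMk (EtHens.pt R ≫ Spec.map (CommRingCat.ofHom φ')) (by
      show (_ ≫ _) ≫ j ≫ k.et.hom = _
      rw [Category.assoc, reassoc_of% hφ', k.sec_w]
      rfl))
  let t : (Scheme.AffineEtale.Spec S).obj m.1 ⟶ (Scheme.AffineEtale.Spec S).obj k.1 :=
    MorphismProperty.Over.homMk j rfl
  let g : m ⟶ k := CategoryOfElements.homMk _ _ ((Scheme.AffineEtale.Spec S).preimage t) (by
    show (fib S s R).map ((Scheme.AffineEtale.Spec S).map _) _ = _
    rw [Functor.map_preimage]
    refine Over.OverMorphism.ext ?_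
    show (EtHens.pt R ≫ Spec.map (CommRingCat.ofHom φ')) ≫ j = k.pt
    rw [Category.assoc, hφ', k.sec_pt])
  refine ⟨m, g ≫ gk, ?_⟩
  show g.1.left.unop (gk.1.left.unop y) = 0
  have hg : g.1.left.unop = CommRingCat.ofHom (algebraMap k.1.left.unop (Localization.Away w)) := by
    apply Spec.map_injective
    exact congrArg (fun t : (Scheme.AffineEtale.Spec S).obj m.1 ⟶ (Scheme.AffineEtale.Spec S).obj k.1 => t.left)
      ((Scheme.AffineEtale.Spec S).map_preimage t)
  rw [hg]
  refine ((IsLocalization.Away.algebraMap_isUnit (S := Localization.Away w) w).mul_right_eq_zero).1 ?_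
  show algebraMap k.1.left.unop (Localization.Away w) w * algebraMap k.1.left.unop _ (gk.1.left.unop y) = 0
  rw [← map_mul, hwy, map_zero]

end Groth.Agent.EtStrictLoc
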