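import Groth.Agent.EtStrictLoc.RelSys
import Groth.Agent.EtLimit.FilColim
import Groth.Agent.EtHens.Basic
import Mathlib

/-!
Stalks of direct images at a strictly henselian point.
-/

universe u

open CategoryTheory CategoryTheory.Limits AlgebraicGeometry Opposite IsLocalRing

set_option backward.isDefEq.respectTransparency false
set_option backward.isDefEq.respectTransparency.types false

set_option maxHeartbeats 4000000
set_option linter.style.haveILetI false
set_option linter.overlappingInstances false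

noncomputable section

namespace Groth.Agent.EtStrictLoc

open Groth.Agent.EtLimit Groth.Agent.EtMV

variable {X S : Scheme.{u}} (f : X ⟶ S) (s : S) (R : Type u) [CommRing R] [IsLocalRing R]
  [Algebra (S.presheaf.stalk s) R] [IsSepClosed (ResidueField R)] [HenselianLocalRing R]

/-- the extension of a point to the strict localisation -/
def liftPt (U : S.Etale) (v : (fib S s R).obj U) : Spec (CommRingCat.of R) ⟶ U.left :=
  (exists_lift (Hens2.specOf S s R) U v.left (Over.w v)).choose

theorem liftPt_w (U : S.Etale) (v : (fib S s R).obj U) : liftPt s R U v ≫ U.hom = Hens2.specOf S s R :=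
  (exists_lift (Hens2.specOf S s R) U v.left (Over.w v)).choose_spec.1

theorem liftPt_pt (U : S.Etale) (v : (fib S s R).obj U) : EtHens.pt R ≫ liftPt s R U v = v.left :=
  (exists_lift (Hens2.specOf S s R) U v.left (Over.w v)).choose_spec.2

theorem liftPt_map {U U' : S.Etale} (g : U ⟶ U') (v : (fib S s R).obj U) :
    liftPt s R U v ≫ g.left = liftPt s R U' ((fib S s R).map g v) := by
  haveI : Etale U'.hom := U'.prop
  refine ext_of_closed U'.hom ?_ ?_
  · rw [Category.assoc, liftPt_w]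
    exact (congrArg (liftPt s R U v ≫ ·) (MorphismProperty.Over.w g)).trans (liftPt_w s R U v)
  · rw [← Category.assoc]
    exact (congrArg (· ≫ g.left) (liftPt_pt s R U v)).trans (liftPt_pt s R U' ((fib S s R).map g v)).symm

theorem liftPt_nhd (i : Idx S s R) : liftPt s R i.nhd.et i.nhd.2 = i.nhd.sec :=
  i.nhd.sec_unique _ (liftPt_w s R _ _) (liftPt_pt s R _ _)

/-- the map of the strict localisation into a pointed neighbourhood, over `X` -/
def δv (U : S.Etale) (v : (fib S s R).obj U) :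
    EtCoh.top (xR f s R) ⟶ (EtCoh.bc (pullback.fst f (Hens2.specOf S s R))).obj ((EtCoh.bc f).obj U) :=
  hm _ _ _ (pullback.lift (pullback.snd f _ ≫ liftPt s R U v) (pullback.fst f _)
      (by rw [Category.assoc, liftPt_w]; exact pullback.condition.symm))
    (by
      show pullback.lift _ _ _ ≫ pullback.snd U.hom f = 𝟙 _ ≫ _
      rw [pullback.lift_snd, Category.id_comp])

theorem δv_fst (U : S.Etale) (v : (fib S s R).obj U) :
    (δv f s R U v).left ≫ fstE _ ((EtCoh.bc f).obj U) ≫ fstE f U = pullback.snd f _ ≫ liftPt s R U v := by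
  rw [← Category.assoc, δv, hm_fst]
  exact pullback.lift_fst _ _ _

theorem δv_snd (U : S.Etale) (v : (fib S s R).obj U) :
    (δv f s R U v).left ≫ fstE _ ((EtCoh.bc f).obj U) ≫ ((EtCoh.bc f).obj U).hom = pullback.fst f _ := by
  rw [← Category.assoc, δv, hm_fst]
  exact pullback.lift_snd _ _ _

theorem δv_map {U U' : S.Etale} (g : U ⟶ U') (v : (fib S s R).obj U) :
    δv f s R U v ≫ (EtCoh.bc (pullback.fst f (Hens2.specOf S s R))).map ((EtCoh.bc f).map g) =
      δv f s R U' ((fib S s R).map g v) := by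
  let p := pullback.fst f (Hens2.specOf S s R)
  have e : (δv f s R U v ≫ (EtCoh.bc p).map ((EtCoh.bc f).map g)).left ≫ fstE p ((EtCoh.bc f).obj U') =
      (δv f s R U v).left ≫ fstE p ((EtCoh.bc f).obj U) ≫ ((EtCoh.bc f).map g).left := by
    refine (Category.assoc (δv f s R U v).left ((EtCoh.bc p).map ((EtCoh.bc f).map g)).left _).trans ?_
    rw [bc_map_fst]
  refine bc_hom_ext _ _ _ (pullback.hom_ext (f := U'.hom) (g := f) ?_ ?_)
  · refine ((congrArg (· ≫ fstE f U') e).trans ?_).trans ((Category.assoc _ _ _).trans (δv_fst f s R U' _)).symm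
    simp only [Category.assoc]
    rw [bc_map_fst f g, reassoc_of% (δv_fst f s R U v), liftPt_map]
  · refine ((congrArg (· ≫ ((EtCoh.bc f).obj U').hom) e).trans ?_).trans
      ((Category.assoc _ _ _).trans (δv_snd f s R U' _)).symm
    simp only [Category.assoc]
    rw [MorphismProperty.Over.w ((EtCoh.bc f).map g)]
    exact δv_snd f s R U v

/-- restriction to the strict localisation -/
def resHom (U : S.Etale) (v : (fib S s R).obj U) (F : EtCoh.Ab X) :
    F.obj.obj (op ((EtCoh.bc f).obj U)) ⟶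
      ((EtCoh.pull (pullback.fst f (Hens2.specOf S s R))).obj F).obj.obj (op (EtCoh.top (xR f s R))) :=
  AddCommGrpCat.ofHom (AddMonoidHom.mk' (r _ (δv f s R U v) F) (r_add _ _ F))

/-- sections on the whole scheme -/
abbrev Γtop (Y : Scheme.{u}) : EtCoh.Ab Y ⥤ AddCommGrpCat.{u + 1} :=
  (sheafSections Y.smallEtaleTopology AddCommGrpCat.{u + 1}).obj (op (EtCoh.top Y))

/-- from the stalk of the direct image to sections on the strict localisation -/
def thetaApp (F : EtCoh.Ab X) :
    (EtCoh.stalk (Hens2.geomPt S s R)).obj ((EtCoh.push f).obj F) ⟶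
      (Γtop (xR f s R)).obj ((EtCoh.pull (pullback.fst f (Hens2.specOf S s R))).obj F) :=
  (Scheme.pointSmallEtale (Hens2.geomPt S s R)).presheafFiberDesc
    (P := ((EtCoh.push f).obj F).obj) (fun U v => resHom f s R U v F) (fun U U' g v => by
      ext t
      refine (r_map (pullback.fst f (Hens2.specOf S s R)) (δv f s R U v) ((EtCoh.bc f).map g) F t).trans ?_
      rw [δv_map]
      rfl)

theorem thetaApp_germ (F : EtCoh.Ab X) (U : S.Etale) (v : (fib S s R).obj U)
    (t : EtCoh.sect F ((EtCoh.bc f).obj U)) :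
    thetaApp f s R F ((Scheme.pointSmallEtale (Hens2.geomPt S s R)).toPresheafFiber U v ((EtCoh.push f).obj F).obj t) =
      r _ (δv f s R U v) F t :=
  ConcreteCategory.congr_hom ((Scheme.pointSmallEtale (Hens2.geomPt S s R)).toPresheafFiber_presheafFiberDesc
    (P := ((EtCoh.push f).obj F).obj) (fun U v => resHom f s R U v F) _ U v) t

/-- the natural transformation -/
def theta : EtCoh.push f ⋙ EtCoh.stalk (Hens2.geomPt S s R) ⟶
    EtCoh.pull (pullback.fst f (Hens2.specOf S s R)) ⋙ Γtop (xR f s R) where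
  app := thetaApp f s R
  naturality F G φ := by
    refine (Scheme.pointSmallEtale (Hens2.geomPt S s R)).presheafFiber_hom_ext fun U v => ?_
    ext t
    show thetaApp f s R G ((Scheme.pointSmallEtale (Hens2.geomPt S s R)).presheafFiber.map ((EtCoh.push f).map φ).hom _) =
      ((EtCoh.pull _).map φ).hom.app _ (thetaApp f s R F _)
    refine Eq.trans ?_ ((congrArg (fun z => ((EtCoh.pull _).map φ).hom.app _ z) (thetaApp_germ f s R F U v t)).trans
      (r_natural _ _ φ t)).symm
    refine Eq.trans (congrArg (fun z => thetaApp f s R G z) ?_) (thetaApp_germ f s R G U v _)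
    exact GrothendieckTopology.Point.toPresheafFiber_naturality_apply _ ((EtCoh.push f).map φ).hom U v t

theorem bijective_r_obj {Z : Scheme.{u}} (o : Z.Etale) (G : EtCoh.Ab Z) :
    Function.Bijective (r o.hom (@δd _ _ o.hom o.prop : EtCoh.top o.left ⟶ (EtCoh.bc o.hom).obj o) G) := by
  haveI : Etale o.hom := o.prop
  haveI := jcont_etale o.hom
  exact r_bijective_etale o.hom G

theorem exists_idx_refine (U : S.Etale) (v : (fib S s R).obj U) :
    ∃ (i : Idx S s R) (g : i.nhd.et ⟶ U), (fib S s R).map g i.nhd.2 = v := by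
  obtain ⟨A, j, hj, hjy, -⟩ := Scheme.exists_affine_mem_range_and_range_subset
    (x := v.left (default : Spec (CommRingCat.of (ResidueField R)))) (U := (⊤ : U.left.Opens)) (by simp)
  have hr : Set.range v.left ⊆ Set.range j := by
    rintro _ ⟨a, rfl⟩
    rwa [Subsingleton.elim (α := Spec (CommRingCat.of (ResidueField R))) a default]
  haveI : Etale U.hom := U.prop
  let n : Nhd S s R := Functor.elementsMk _ (Scheme.AffineEtale.mk (j ≫ U.hom))
    (Over.homMk (IsOpenImmersion.lift j v.left hr) (by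
      show IsOpenImmersion.lift j v.left hr ≫ j ≫ U.hom = _
      rw [IsOpenImmersion.lift_fac_assoc]
      exact Over.w v))
  let g : n.et ⟶ U := MorphismProperty.Over.homMk j rfl
  let e := (equivSmallModel.{u} (Nhd S s R)).unitIso.app n
  refine ⟨_, (Scheme.AffineEtale.Spec S).map e.inv.1 ≫ g, ?_⟩
  rw [Functor.map_comp_apply]
  refine (congrArg ((fib S s R).map g) e.inv.2).trans ?_
  exact Over.OverMorphism.ext (IsOpenImmersion.lift_fac _ _ _)

theorem δd_fst {Z Y : Scheme.{u}} (h : Y ⟶ Z) [Etale h] :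
    (δd h).left ≫ fstE h (Scheme.Etale.mk h) = 𝟙 _ := pullback.lift_fst _ _ _

theorem fstE_hom {Z Y : Scheme.{u}} (φ : Y ⟶ Z) (o : Z.Etale) :
    fstE φ o ≫ o.hom = ((EtCoh.bc φ).obj o).hom ≫ φ := pullback.condition

theorem left_fstE_top {Z Y : Scheme.{u}} (φ : Y ⟶ Z) {T : Y.Etale} (a : T ⟶ (EtCoh.bc φ).obj (EtCoh.top Z)) :
    a.left ≫ fstE φ (EtCoh.top Z) = T.hom ≫ φ := by
  rw [← left_snd φ a, Category.assoc]
  exact congrArg (a.left ≫ ·) ((Category.comp_id (fstE φ (EtCoh.top Z))).symm.trans pullback.condition)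

variable [QuasiCompact f] [QuasiSeparated f] [IsLocalHom (algebraMap (S.presheaf.stalk s) R)]
  [_root_.Hensel.IsStrictHenselization (S.presheaf.stalk s) R]

/-- the whole strict localisation into the base change of a whole stage -/
abbrev δ₀ (i : Idx S s R) :
    EtCoh.top (xR f s R) ⟶ (EtCoh.bc (uπ (xCone f s R) i)).obj (EtCoh.top ((xDiag f s R).obj i)) :=
  (EtCore.bcTopIsTerminal (uπ (xCone f s R) i)).from _

theorem δ₀_fst (i : Idx S s R) : (δ₀ f s R i).left ≫ fstE (uπ (xCone f s R) i) (EtCoh.top _) = xπ f s R i :=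
  (left_fstE_top (uπ (xCone f s R) i) (δ₀ f s R i)).trans (Category.id_comp _)

/-- the sections at a stage -/
abbrev stageSect (i : Idx S s R) (F : EtCoh.Ab X) (t : EtCoh.sect F ((EtCoh.bc f).obj i.nhd.et)) :
    EtCoh.sect ((relDatum f s R F).F i) (EtCoh.top ((xDiag f s R).obj i)) :=
  r (xp f s R i) (δd (xp f s R i)) F t

theorem vs_stageSect (i : Idx S s R) (F : EtCoh.Ab X) (t : EtCoh.sect F ((EtCoh.bc f).obj i.nhd.et)) :
    (relDatum f s R F).vs i (δ₀ f s R i) (stageSect f s R i F t) =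
      r _ (δv f s R i.nhd.et i.nhd.2) F t := by
  refine baseDatum_vs (xCone f s R) (xp f s R) (xp_w f s R) (pullback.fst f (Hens2.specOf S s R)) (xπ_snd f s R) F i
    (δd (xp f s R i)) (δ₀ f s R i) (δv f s R i.nhd.et i.nhd.2) ?_ t
  rw [reassoc_of% (δ₀_fst f s R i)]
  refine (congrArg (xπ f s R i ≫ ·) (δd_fst (xp f s R i))).trans ((Category.comp_id _).trans ?_)
  apply pullback.hom_ext (f := i.nhd.et.hom) (g := f)
  · refine (xπ_fst f s R i).trans ?_
    rw [← liftPt_nhd, Category.assoc]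
    exact (δv_fst f s R i.nhd.et i.nhd.2).symm
  · refine (xπ_snd f s R i).trans ?_
    rw [Category.assoc]
    exact (δv_snd f s R i.nhd.et i.nhd.2).symm

theorem surjective_thetaApp (F : EtCoh.Ab X) : Function.Surjective (thetaApp f s R F) := by
  intro ζ₀
  haveI : Nonempty (Idx S s R) := IsCofiltered.nonempty
  let D := xDiag f s R
  let c := xCone f s R
  let Sd := relDatum f s R F
  have hc := isLimitXCone f s R
  have hψ : Sd.Cocycle := baseDatum_cocycle _ _ _ _ _ F
  have hM : Sd.IsColim := baseDatum_isColim _ _ _ _ _ F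
  have hS := surjSect_of_germS hc hψ (germS_of_isColim hc hψ hM) (injSect_of_germI hc hψ (germI_of_isColim hM))
  let j : Idx S s R := Classical.arbitrary _
  obtain ⟨k, a, l, b, t, ht⟩ := hS.eq j (EtCoh.top _) ⟨inferInstanceAs (CompactSpace (D.obj j)),
      inferInstanceAs (QuasiSeparatedSpace (D.obj j))⟩
    (Sd.M.obj.map ((EtHens.isTerminalTop c.pt).from _).op ζ₀)
  let W := (EtCoh.bc (D.map b)).obj ((EtCoh.bc (D.map a)).obj (EtCoh.top (D.obj j)))
  let Ta : IsTerminal ((EtCoh.bc (D.map a)).obj (EtCoh.top (D.obj j))) := EtCore.bcTopIsTerminal (D.map a)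
  let TW : IsTerminal W := Ta.isTerminalObj (EtCoh.bc (D.map b)) _
  let TWv : IsTerminal ((EtCoh.bc (uπ c l)).obj W) := TW.isTerminalObj (EtCoh.bc (uπ c l)) _
  let Tj : IsTerminal ((EtCoh.bc (uπ c j)).obj (EtCoh.top (D.obj j))) := EtCore.bcTopIsTerminal (uπ c j)
  obtain ⟨u₀, hu₀⟩ := (bijective_r_obj ((EtCoh.bc f).obj l.nhd.et) F).2
    ((Sd.F l).obj.map (TW.from (EtCoh.top (D.obj l))).op t)
  refine ⟨(Scheme.pointSmallEtale (Hens2.geomPt S s R)).toPresheafFiber l.nhd.et l.nhd.2
    ((EtCoh.push f).obj F).obj u₀, ?_⟩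
  rw [thetaApp_germ, ← vs_stageSect]
  have hu : stageSect f s R l F u₀ = (Sd.F l).obj.map (TW.from (EtCoh.top (D.obj l))).op t := hu₀
  rw [hu, vs_res]
  let h : (EtCoh.bc (uπ c l)).obj W ⟶ (EtCoh.bc (uπ c j)).obj (EtCoh.top (D.obj j)) := Tj.from _
  have hh : h.left ≫ fstE (uπ c j) (EtCoh.top (D.obj j)) = fstE (uπ c l) W ≫
      fstE (D.map b) ((EtCoh.bc (D.map a)).obj (EtCoh.top (D.obj j))) ≫ fstE (D.map a) (EtCoh.top (D.obj j)) := by
    rw [left_fstE_top (uπ c j) h]
    refine Eq.trans ?_ (congrArg (fun z => fstE (uπ c l) W ≫ fstE (D.map b) _ ≫ z)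
      ((Category.comp_id _).symm.trans (fstE_hom (D.map a) (EtCoh.top (D.obj j))))).symm
    rw [reassoc_of% (fstE_hom (D.map b) ((EtCoh.bc (D.map a)).obj (EtCoh.top (D.obj j))))]
    rw [reassoc_of% (fstE_hom (uπ c l) W)]
    exact congrArg (((EtCoh.bc (uπ c l)).obj W).hom ≫ ·)
      ((uπ_w c a).symm.trans ((congrArg (· ≫ D.map a) (uπ_w c b).symm).trans (Category.assoc _ _ _)))
  have key := ht h hh
  have e := congrArg (Sd.M.obj.map (TWv.from (EtCoh.top c.pt)).op) key
  rw [vs_pre, Category.comp_id, ← ConcreteCategory.comp_apply, ← Functor.map_comp, ← op_comp,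
    ← ConcreteCategory.comp_apply, ← Functor.map_comp, ← op_comp,
    (EtHens.isTerminalTop c.pt).hom_ext ((TWv.from (EtCoh.top c.pt) ≫ h) ≫ (EtHens.isTerminalTop c.pt).from _)
      (𝟙 _), op_id, CategoryTheory.Functor.map_id] at e
  rw [TWv.hom_ext (δ₀ f s R l ≫ (EtCoh.bc (uπ c l)).map (TW.from (EtCoh.top (D.obj l)))) (TWv.from _)]
  exact e.symm

/-- restriction of sections along a transition of stages -/
abbrev stageRes {i k : Idx S s R} (a : k ⟶ i) (F : EtCoh.Ab X) (t : EtCoh.sect F ((EtCoh.bc f).obj i.nhd.et)) :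
    EtCoh.sect F ((EtCoh.bc f).obj k.nhd.et) :=
  F.obj.map ((EtCoh.bc f).map ((etDiag s R).map a)).op t

theorem ts_stageSect {i k : Idx S s R} (a : k ⟶ i) (F : EtCoh.Ab X)
    (t : EtCoh.sect F ((EtCoh.bc f).obj i.nhd.et))
    (e : EtCoh.top ((xDiag f s R).obj k) ⟶
      (EtCoh.bc ((xDiag f s R).map a)).obj (EtCoh.top ((xDiag f s R).obj i))) :
    (relDatum f s R F).ts a e (stageSect f s R i F t) = stageSect f s R k F (stageRes f s R a F t) := by
  let q := δd (xp f s R k) ≫ (EtCoh.bc (xp f s R k)).map ((EtCoh.bc f).map ((etDiag s R).map a))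
  refine Eq.trans ?_ (r_map (xp f s R k) (δd (xp f s R k)) ((EtCoh.bc f).map ((etDiag s R).map a)) F t).symm
  refine baseDatum_ts (xCone f s R) (xp f s R) (xp_w f s R) (pullback.fst f (Hens2.specOf S s R)) (xπ_snd f s R) F a
    (δd (xp f s R i)) e q ?_ t
  have h3 : e.left ≫ fstE ((xDiag f s R).map a) (EtCoh.top ((xDiag f s R).obj i)) = (xDiag f s R).map a :=
    (left_fstE_top ((xDiag f s R).map a) e).trans (Category.id_comp _)
  rw [reassoc_of% h3]
  refine (congrArg ((xDiag f s R).map a ≫ ·) (δd_fst (xp f s R i))).trans ((Category.comp_id _).trans ?_)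
  refine Eq.symm (((Category.assoc (δd (xp f s R k)).left _ _).trans
    (congrArg ((δd (xp f s R k)).left ≫ ·) (bc_map_fst (xp f s R k) ((EtCoh.bc f).map ((etDiag s R).map a))))).trans ?_)
  exact (reassoc_of% (δd_fst (xp f s R k))) _

theorem eq_zero_of_stageSect (i : Idx S s R) (F : EtCoh.Ab X) (t : EtCoh.sect F ((EtCoh.bc f).obj i.nhd.et))
    (h : stageSect f s R i F t = 0) : t = 0 :=
  (bijective_r_obj ((EtCoh.bc f).obj i.nhd.et) F).1 (h.trans (r_zero (xp f s R i) (δd (xp f s R i)) F).symm)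

theorem exists_stage_kill (i : Idx S s R) (F : EtCoh.Ab X) (t : EtCoh.sect F ((EtCoh.bc f).obj i.nhd.et))
    (hz : (relDatum f s R F).vs i (δ₀ f s R i) (stageSect f s R i F t) = 0) :
    ∃ (k : Idx S s R) (a : k ⟶ i), stageRes f s R a F t = 0 := by
  haveI : Nonempty (Idx S s R) := IsCofiltered.nonempty
  have hI := injSect_of_germI (isLimitXCone f s R) (baseDatum_cocycle _ _ _ _ _ F : (relDatum f s R F).Cocycle)
    (germI_of_isColim (baseDatum_isColim _ _ _ _ _ F : (relDatum f s R F).IsColim))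
  let back := (EtHens.isTerminalTop (xCone f s R).pt).from
    ((EtCoh.bc (uπ (xCone f s R) i)).obj (EtCoh.top ((xDiag f s R).obj i)))
  have hz' := congrArg ((relDatum f s R F).M.obj.map back.op) hz
  rw [vs_pre, map_zero, (EtCore.bcTopIsTerminal (uπ (xCone f s R) i)).hom_ext (back ≫ δ₀ f s R i) (𝟙 _)] at hz'
  obtain ⟨k, a, ha⟩ := hI.eq i (EtCoh.top _) ⟨inferInstanceAs (CompactSpace ((xDiag f s R).obj i)),
      inferInstanceAs (QuasiSeparatedSpace ((xDiag f s R).obj i))⟩ (stageSect f s R i F t) hz'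
  let e : EtCoh.top ((xDiag f s R).obj k) ⟶ (EtCoh.bc ((xDiag f s R).map a)).obj (EtCoh.top ((xDiag f s R).obj i)) :=
    (EtCore.bcTopIsTerminal ((xDiag f s R).map a)).from _
  have ha' := congrArg (((relDatum f s R F).F k).obj.map e.op) ha
  rw [ts_pre, map_zero, Category.comp_id, ts_stageSect] at ha'
  exact ⟨k, a, eq_zero_of_stageSect f s R k F _ ha'⟩

theorem germ_eq_zero {C : Type (u + 1)} [Category.{u} C] {J : GrothendieckTopology C}
    (Φ : GrothendieckTopology.Point.{u} J) (P : Cᵒᵖ ⥤ AddCommGrpCat.{u + 1}) {V W : C} (g : W ⟶ V)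
    (w : Φ.fiber.obj W) (v : Φ.fiber.obj V) (hw : Φ.fiber.map g w = v) (t : P.obj (op V))
    (h : P.map g.op t = 0) : Φ.toPresheafFiber V v P t = 0 := by
  subst hw
  rw [← GrothendieckTopology.Point.toPresheafFiber_w_apply, h, map_zero]

theorem injective_thetaApp (F : EtCoh.Ab X) : Function.Injective (thetaApp f s R F) := by
  refine (injective_iff_map_eq_zero' (thetaApp f s R F).hom).2 fun z => ⟨fun hz => ?_, fun h => by rw [h, map_zero]⟩
  obtain ⟨U, v, t, rfl⟩ :=
    (Scheme.pointSmallEtale (Hens2.geomPt S s R)).toPresheafFiber_jointly_surjective (P := ((EtCoh.push f).obj F).obj) z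
  obtain ⟨i, g, hg⟩ := exists_idx_refine s R U v
  have e := GrothendieckTopology.Point.toPresheafFiber_w_apply (Scheme.pointSmallEtale (Hens2.geomPt S s R))
    g i.nhd.2 ((EtCoh.push f).obj F).obj t
  subst hg
  let t' : EtCoh.sect F ((EtCoh.bc f).obj i.nhd.et) := F.obj.map ((EtCoh.bc f).map g).op t
  have h1 : r (pullback.fst f (Hens2.specOf S s R)) (δv f s R i.nhd.et i.nhd.2) F t' = 0 :=
    (thetaApp_germ f s R F i.nhd.et i.nhd.2 t').symm.trans ((congrArg (fun z => thetaApp f s R F z) e).trans hz)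
  obtain ⟨k, a, ha⟩ := exists_stage_kill f s R i F t' ((vs_stageSect f s R i F t').trans h1)
  exact e.symm.trans (germ_eq_zero (Scheme.pointSmallEtale (Hens2.geomPt S s R)) ((EtCoh.push f).obj F).obj
    ((etDiag s R).map a) k.nhd.2 i.nhd.2 (Idx.nhdMap a).2 t' ha)

instance : IsIso (theta f s R) := by
  haveI : ∀ F, IsIso ((theta f s R).app F) := fun F =>
    (ConcreteCategory.isIso_iff_bijective _).2 ⟨injective_thetaApp f s R F, surjective_thetaApp f s R F⟩
  exact NatIso.isIso_of_isIso_app _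

end Groth.Agent.EtStrictLoc
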