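import Groth.Agent.Hensel.Henselization
import Groth.Agent.Hensel.HenselizationProps
import Groth.Agent.Hensel.EnvelopeStage
import Groth.Agent.UnibranchEtale.Neighbourhood
import Groth.Agent.UnramLib.FlatUnram
import Mathlib

/-!
A strict henselization is the filtered union of étale algebras over an affine neighbourhood.
-/

universe u

open IsLocalRing

namespace Groth.Agent.EtStrictLoc

section Points

variable {B : Type u} [CommRing B] {R : Type u} [CommRing R] [IsLocalRing R] [Algebra B R]

/-- the structure of a localization of the universal product, seen on a strict henselization -/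
theorem exists_points [IsLocalRing B] [IsLocalHom (algebraMap B R)] [_root_.Hensel.IsStrictHenselization B R] :
    ∃ (π : R →ₐ[B] SeparableClosure (ResidueField B))
      (ι : Hensel.EnvTop B (SeparableClosure (ResidueField B)) →ₐ[B] R),
      (∀ z, π z = 0 ↔ z ∈ maximalIdeal R) ∧ (∀ x, π (ι x) = Hensel.envEv B _ x) ∧
      ∀ z, ∃ x t, IsUnit (ι t) ∧ z * ι t = ι x := by
  let K := SeparableClosure (ResidueField B)
  obtain ⟨e⟩ := Hensel.strictHenselization_equiv B R
  let j : Hensel.EnvTop B K →ₐ[B] Hensel.Env B K := IsScalarTower.toAlgHom B _ _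
  refine ⟨(Hensel.envRes B K).comp e.toAlgHom, e.symm.toAlgHom.comp j, fun z => ?_, fun x => ?_, fun z => ?_⟩
  · show Hensel.envRes B K (e z) = 0 ↔ _
    rw [Hensel.envRes_eq_zero_iff, mem_maximalIdeal, mem_maximalIdeal, mem_nonunits_iff, mem_nonunits_iff,
      MulEquiv.isUnit_map e]
  · show Hensel.envRes B K (e (e.symm (j x))) = _
    rw [e.apply_symm_apply]
    exact Hensel.envRes_algebraMap B K x
  · obtain ⟨⟨x, t⟩, h⟩ := IsLocalization.surj (Hensel.envPrime B K).primeCompl (e z)
    refine ⟨x, t.1, (IsLocalization.map_units (Hensel.Env B K) t).map e.symm, ?_⟩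
    show z * e.symm (j t.1) = e.symm (j x)
    rw [← e.injective.eq_iff, map_mul, e.apply_symm_apply, e.apply_symm_apply]
    exact h

end Points

variable {A : Type u} [CommRing A] (p : Ideal A) [p.IsPrime] (B : Type u) [CommRing B] [IsLocalRing B] [Algebra A B]
  [IsLocalization.AtPrime B p] (R : Type u) [CommRing R] [IsLocalRing R] [Algebra B R]
  [IsLocalHom (algebraMap B R)] [_root_.Hensel.IsStrictHenselization B R] [Algebra A R] [IsScalarTower A B R]

include p B in
theorem flat_strict : Module.Flat A R := by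
  haveI : Module.Flat A B := IsLocalization.flat B p.primeCompl
  haveI : Module.Flat B R := Hensel.strictHenselization_flat B R
  exact Module.Flat.trans A B R

include p B in
/-- every element comes from an étale algebra of the neighbourhood -/
theorem exists_stage (x : R) :
    ∃ (C : Type u) (_ : CommRing C) (_ : Algebra A C) (_ : Algebra.Etale A C) (φ : C →ₐ[A] R),
      x ∈ Set.range φ := by
  haveI : Module.Flat B R := Hensel.strictHenselization_flat B R
  obtain ⟨π, ι, hπ, hι, hloc⟩ := exists_points (B := B) (R := R)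
  obtain ⟨P, T, _, _, _, ψ, χ, h1, -, -, hz⟩ := Hensel.exists_local_stage B _ π hπ ι hι hloc ![x]
  obtain ⟨y, hy⟩ := hz 0
  simp only [Matrix.cons_val_fin_one] at hy
  obtain ⟨b, c, hc, hbc⟩ := h1 y
  have hb : x * χ (ψ c) = χ (ψ b) := by rw [← hy, ← map_mul, hbc]
  obtain ⟨C, _, _, _, _, _, α, hα⟩ := UnibranchEtale.exists_spread p B P
  obtain ⟨cb, db, hdb, hcb⟩ := hα b
  obtain ⟨cc, dc, hdc, hcc⟩ := hα c
  let φ : C →ₐ[A] R := ((χ.comp ψ).restrictScalars A).comp α
  have hA : ∀ d, χ (ψ (algebraMap A P.Ring d)) = algebraMap A R d := fun d => by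
    rw [IsScalarTower.algebraMap_apply A B P.Ring, AlgHom.commutes, AlgHom.commutes,
      ← IsScalarTower.algebraMap_apply A B R]
  have hb' : φ cb = χ (ψ b) * algebraMap A R db := by
    show χ (ψ (α cb)) = _
    rw [← hcb, map_mul, map_mul, hA]
  have hc' : φ cc = χ (ψ c) * algebraMap A R dc := by
    show χ (ψ (α cc)) = _
    rw [← hcc, map_mul, map_mul, hA]
  have hud : ∀ d ∉ p, IsUnit (algebraMap A R d) := fun d hd => by
    rw [IsScalarTower.algebraMap_apply A B R]
    exact (IsLocalization.map_units B (⟨d, hd⟩ : p.primeCompl)).map _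
  let w : C := cc * algebraMap A C db
  have hw : IsUnit (φ w) := by
    rw [map_mul, AlgHom.commutes, hc']
    exact ((hc.map χ).mul (hud dc hdc)).mul (hud db hdb)
  haveI : Algebra.Etale C (Localization.Away w) := Algebra.Etale.of_isLocalizationAway w
  haveI : Algebra.Etale A (Localization.Away w) := Algebra.Etale.comp A C _
  let φ' : Localization.Away w →ₐ[A] R := IsLocalization.Away.liftAlgHom w (f := φ) hw
  have hφ' : ∀ z, φ' (algebraMap C _ z) = φ z := fun z =>
    IsLocalization.Away.lift_eq w (g := φ.toRingHom) hw z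
  obtain ⟨v, hv⟩ := (IsLocalization.Away.algebraMap_isUnit (S := Localization.Away w) w).exists_right_inv
  refine ⟨_, inferInstance, inferInstance, inferInstance, φ',
    algebraMap C _ (cb * algebraMap A C dc) * v, ?_⟩
  refine hw.mul_left_injective ?_
  show φ' _ * φ w = x * φ w
  conv_lhs => rw [← hφ' w, ← map_mul, mul_assoc, mul_comm v, hv, mul_one, hφ']
  rw [map_mul, map_mul, hc', hb', ← hb, AlgHom.commutes, AlgHom.commutes]
  ring

include p B in
/-- a relation in the strict henselization holds after shrinking -/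
theorem exists_kill {C : Type u} [CommRing C] [Algebra A C] [Algebra.Etale A C] (φ : C →ₐ[A] R) {y : C}
    (hy : φ y = 0) : ∃ w : C, IsUnit (φ w) ∧ w * y = 0 := by
  letI : Algebra C R := φ.toRingHom.toAlgebra
  haveI : IsScalarTower A C R := IsScalarTower.of_algebraMap_eq fun r => (φ.commutes r).symm
  haveI : Module.Flat A R := flat_strict p B R
  haveI : Module.Flat C R := UnramLib.flat_of_formallyUnramified A C R
  obtain ⟨k, a, z, hz, ha⟩ := Module.Flat.isTrivialRelation_of_sum_smul_eq_zero
    (f := fun _ : Fin 1 => y) (x := fun _ : Fin 1 => (1 : R)) (by simp [Algebra.smul_def, RingHom.algebraMap_toAlgebra, hy])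
  have h1 : (1 : R) = ∑ j, φ (a 0 j) * z j := by
    refine (hz 0).trans ?_
    simp [Algebra.smul_def, RingHom.algebraMap_toAlgebra]
  have : ∃ j, IsUnit (φ (a 0 j)) := by
    by_contra h
    push Not at h
    refine (IsLocalRing.maximalIdeal.isMaximal R).ne_top ((Ideal.eq_top_iff_one _).2 ?_)
    rw [h1]
    exact Ideal.sum_mem _ fun j _ => Ideal.mul_mem_right _ _ (h j)
  obtain ⟨j, hj⟩ := this
  refine ⟨a 0 j, hj, ?_⟩
  simpa [mul_comm] using ha j

end Groth.Agent.EtStrictLoc
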