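import Groth.Agent.EtStrictLoc.Nbhd
import Mathlib

/-!
The strict localisation is the limit of affine étale neighbourhoods.
-/

universe u

open CategoryTheory CategoryTheory.Limits AlgebraicGeometry Opposite IsLocalRing

set_option backward.isDefEq.respectTransparency false
set_option backward.isDefEq.respectTransparency.types false

noncomputable section

namespace Groth.Agent.EtStrictLoc

variable (S : Scheme.{u}) (s : S) (R : Type u) [CommRing R] [IsLocalRing R] [Algebra (S.presheaf.stalk s) R]
  [IsSepClosed (ResidueField R)]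

/-- the neighbourhood of an index -/
abbrev Idx.nhd {S : Scheme.{u}} {s : S} {R : Type u} [CommRing R] [IsLocalRing R]
    [Algebra (S.presheaf.stalk s) R] [IsSepClosed (ResidueField R)] (i : Idx S s R) : Nhd S s R :=
  (equivSmallModel.{u} (Nhd S s R)).inverse.obj i

/-- the transition map of neighbourhoods -/
abbrev Idx.nhdMap {S : Scheme.{u}} {s : S} {R : Type u} [CommRing R] [IsLocalRing R]
    [Algebra (S.presheaf.stalk s) R] [IsSepClosed (ResidueField R)] {i j : Idx S s R} (a : i ⟶ j) :
    i.nhd ⟶ j.nhd :=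
  (equivSmallModel.{u} (Nhd S s R)).inverse.map a

theorem nhdMap_id (i : Idx S s R) : (Idx.nhdMap (𝟙 i)).1 = 𝟙 i.nhd.1 :=
  congrArg Subtype.val ((equivSmallModel.{u} (Nhd S s R)).inverse.map_id i)

theorem nhdMap_comp {i j k : Idx S s R} (a : i ⟶ j) (b : j ⟶ k) :
    (Idx.nhdMap (a ≫ b)).1 = (Idx.nhdMap a).1 ≫ (Idx.nhdMap b).1 :=
  congrArg Subtype.val ((equivSmallModel.{u} (Nhd S s R)).inverse.map_comp a b)

/-- the rings of the neighbourhoods -/
def ringDiag : Idx S s R ⥤ CommRingCat.{u}ᵒᵖ where
  obj i := i.nhd.1.left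
  map a := (Idx.nhdMap a).1.left
  map_id i := by rw [nhdMap_id]; rfl
  map_comp a b := by rw [nhdMap_comp]; rfl

/-- the system of affine neighbourhoods -/
abbrev diag : Idx S s R ⥤ Scheme.{u} := ringDiag S s R ⋙ Scheme.Spec

variable [HenselianLocalRing R]

/-- the cone on rings -/
def ringCone : Cone (ringDiag S s R) where
  pt := op (CommRingCat.of R)
  π :=
    { app := fun i => i.nhd.ev.op
      naturality := fun i j a => by
        refine (Category.id_comp _).trans ?_
        exact Quiver.Hom.unop_inj (Nhd.ev_map (Idx.nhdMap a)).symm }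

/-- the cone of sections -/
abbrev cone : Cone (diag S s R) := Scheme.Spec.mapCone (ringCone S s R)

variable [IsLocalHom (algebraMap (S.presheaf.stalk s) R)]
  [_root_.Hensel.IsStrictHenselization (S.presheaf.stalk s) R]

variable {S s R}

theorem exists_idx_ev_eq (x : R) : ∃ (i : Idx S s R) (y : i.nhd.1.left.unop), i.nhd.ev y = x := by
  obtain ⟨n, y, hy⟩ := exists_ev_eq (S := S) (s := s) x
  let e := (equivSmallModel.{u} (Nhd S s R)).unitIso.app n
  refine ⟨(equivSmallModel.{u} (Nhd S s R)).functor.obj n, e.inv.1.left.unop y, ?_⟩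
  exact (congr($(Nhd.ev_map e.inv) y)).trans hy

theorem exists_idx_kill (i : Idx S s R) (y : i.nhd.1.left.unop) (hy : i.nhd.ev y = 0) :
    ∃ (k : Idx S s R) (a : k ⟶ i), (Idx.nhdMap a).1.left.unop y = 0 := by
  obtain ⟨m, g, hg⟩ := exists_ev_kill i.nhd y hy
  let E := equivSmallModel.{u} (Nhd S s R)
  let a : E.functor.obj m ⟶ i := E.inverse.preimage (E.unitIso.inv.app m ≫ g)
  refine ⟨_, a, ?_⟩
  have ha : Idx.nhdMap a = E.unitIso.inv.app m ≫ g := E.inverse.map_preimage _
  rw [ha]
  show (E.unitIso.inv.app m).1.left.unop (g.1.left.unop y) = 0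
  rw [hg, map_zero]

variable (S s R)

/-- the strict henselization is the colimit of the rings of the neighbourhoods -/
def isLimitRingCone : IsLimit (ringCone S s R) := by
  haveI : IsFiltered (Idx S s R)ᵒᵖ := inferInstance
  haveI : ReflectsColimitsOfShape (Idx S s R)ᵒᵖ (forget CommRingCat.{u}) :=
    reflectsColimitsOfShape_of_reflectsIsomorphisms
  refine isLimitOfCoconeLeftOpOfCone _ (isColimitOfReflects (forget CommRingCat.{u}) ?_)
  refine Types.FilteredColimit.isColimitOf _ _ ?_ ?_
  · intro x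
    obtain ⟨i, y, hy⟩ := exists_idx_ev_eq (S := S) (s := s) (R := R) x
    exact ⟨op i, y, hy.symm⟩
  · intro i j (y : i.unop.nhd.1.left.unop) (z : j.unop.nhd.1.left.unop) h
    obtain ⟨k, a, b, -⟩ := IsCofilteredOrEmpty.cone_objs i.unop j.unop
    obtain ⟨l, c, hc⟩ := exists_idx_kill k ((Idx.nhdMap a).1.left.unop y - (Idx.nhdMap b).1.left.unop z) (by
      rw [map_sub, sub_eq_zero]
      exact ((congr($(Nhd.ev_map (Idx.nhdMap a)) y)).trans h).trans (congr($(Nhd.ev_map (Idx.nhdMap b)) z)).symm)
    refine ⟨op l, (c ≫ a).op, (c ≫ b).op, ?_⟩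
    rw [map_sub, sub_eq_zero] at hc
    show ((ringDiag S s R).map (c ≫ a)).unop y = ((ringDiag S s R).map (c ≫ b)).unop z
    rw [Functor.map_comp, Functor.map_comp]
    exact hc

/-- the strict localisation is the limit of the affine étale neighbourhoods -/
def isLimitCone : IsLimit (cone S s R) := isLimitOfPreserves Scheme.Spec (isLimitRingCone S s R)

end Groth.Agent.EtStrictLoc
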